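import Mathlib
import Groth.Prelude.Def_Found

/-!
# Catenary rings and limits
-/

universe u v w w'

namespace GrothLib.CatLimit

/-- A Noetherian ring bounds the length of chains of primes with given top. -/
theorem exists_bound {R : Type u} [CommRing R] [IsNoetherianRing R] (q : PrimeSpectrum R) :
    ∃ n : ℕ, ∀ s : LTSeries (PrimeSpectrum R), s.last = q → s.length ≤ n := by
  have h : Order.height q ≠ ⊤ := by
    rw [← PrimeSpectrum.height_eq_orderHeight q]
    exact Ideal.height_ne_top_of_isPrime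
  obtain ⟨n, hn⟩ := ENat.ne_top_iff_exists.1 h
  refine ⟨n, fun s hs => ?_⟩
  have := Order.length_le_height (p := s) (x := q) hs.le
  rw [← hn] at this
  exact_mod_cast this

/-- A saturated chain whose members are extended from the base stays saturated downstairs. -/
theorem exists_chain_comap {A : Type u} [CommRing A] {R : Type w} [CommRing R] (φ : A →+* R)
    (hflat : φ.Flat) (v : LTSeries (PrimeSpectrum R))
    (hF : ∀ i, ((v i).asIdeal.comap φ).map φ = (v i).asIdeal)
    (hcov : ∀ i : Fin v.length, v (Fin.castSucc i) ⋖ v (Fin.succ i)) :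
    ∃ v' : LTSeries (PrimeSpectrum A), v'.length = v.length ∧
      v'.head = PrimeSpectrum.comap φ v.head ∧ v'.last = PrimeSpectrum.comap φ v.last ∧
      ∀ i : Fin v'.length, v' (Fin.castSucc i) ⋖ v' (Fin.succ i) := by
  letI := φ.toAlgebra
  have : Module.Flat A R := hflat
  have hlt : ∀ i : Fin v.length,
      PrimeSpectrum.comap φ (v (Fin.castSucc i)) < PrimeSpectrum.comap φ (v (Fin.succ i)) := by
    intro i
    refine lt_of_le_of_ne (Ideal.comap_mono (hcov i).le) fun he => (hcov i).lt.ne ?_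
    have he' : (v (Fin.castSucc i)).asIdeal.comap φ = (v (Fin.succ i)).asIdeal.comap φ :=
      congrArg PrimeSpectrum.asIdeal he
    refine PrimeSpectrum.ext ?_
    exact ((hF _).symm.trans (congrArg (Ideal.map φ) he')).trans (hF _)
  refine ⟨⟨v.length, fun i => PrimeSpectrum.comap φ (v i), hlt⟩, rfl, rfl, rfl,
    fun i => ⟨hlt i, fun {r} h1 h2 => ?_⟩⟩
  have h1' : (v (Fin.castSucc i)).asIdeal.comap φ ≤ r.asIdeal := h1.le
  have h2' : r.asIdeal ≤ (v (Fin.succ i)).asIdeal.comap φ := h2.le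
  have : (v (Fin.succ i)).asIdeal.LiesOver ((v (Fin.succ i)).asIdeal.comap φ) := ⟨rfl⟩
  obtain ⟨Q, hQle, hQp, hQr⟩ := Ideal.exists_ideal_le_liesOver_of_le (p := r.asIdeal)
    (q := (v (Fin.succ i)).asIdeal.comap φ) (v (Fin.succ i)).asIdeal h2'
  have hle : (v (Fin.castSucc i)).asIdeal ≤ Q := by
    refine (hF (Fin.castSucc i)).symm.trans_le (Ideal.map_le_iff_le_comap.2 ?_)
    exact h1'.trans (le_of_eq hQr.over)
  have hr : r.asIdeal = Q.comap φ := hQr.over
  refine (hcov i).2 (c := (⟨Q, hQp⟩ : PrimeSpectrum R)) (lt_of_le_of_ne hle fun he => ?_)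
    (lt_of_le_of_ne hQle fun he => ?_)
  · refine h1.ne (PrimeSpectrum.ext ?_)
    exact (congrArg (Ideal.comap φ) (congrArg PrimeSpectrum.asIdeal he)).trans hr.symm
  · refine h2.ne (PrimeSpectrum.ext ?_)
    exact hr.trans (congrArg (Ideal.comap φ) (congrArg PrimeSpectrum.asIdeal he))

/-- Chain lengths agree if finitely many primes come by flat maps from catenary rings. -/
theorem length_eq_of_stages {R : Type w} [CommRing R]
    (h : ∀ F : Finset (PrimeSpectrum R), ∃ (A : Type u) (_ : CommRing A) (φ : A →+* R),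
      CAlg.IsCatenary A ∧ φ.Flat ∧ ∀ P ∈ F, (P.asIdeal.comap φ).map φ = P.asIdeal)
    (s t : LTSeries (PrimeSpectrum R)) (hh : s.head = t.head) (hl : s.last = t.last)
    (hs : ∀ i : Fin s.length, s (Fin.castSucc i) ⋖ s (Fin.succ i))
    (ht : ∀ i : Fin t.length, t (Fin.castSucc i) ⋖ t (Fin.succ i)) : s.length = t.length := by
  classical
  obtain ⟨A, _, φ, hA, hflat, hF⟩ := h (Finset.univ.image s.toFun ∪ Finset.univ.image t.toFun)
  obtain ⟨s', hs1, hs2, hs3, hs4⟩ := exists_chain_comap φ hflat s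
    (fun i => hF _ (Finset.mem_union_left _ (Finset.mem_image_of_mem _ (Finset.mem_univ i)))) hs
  obtain ⟨t', ht1, ht2, ht3, ht4⟩ := exists_chain_comap φ hflat t
    (fun i => hF _ (Finset.mem_union_right _ (Finset.mem_image_of_mem _ (Finset.mem_univ i)))) ht
  rw [← hs1, ← ht1]
  exact hA.2 s' t' (hs2.trans ((congrArg _ hh).trans ht2.symm))
    (hs3.trans ((congrArg _ hl).trans ht3.symm)) hs4 ht4

/-- Saturated chains of a quotient are saturated upstairs. -/
theorem length_eq_of_surjective {R : Type w} {S : Type w'} [CommRing R] [CommRing S] (f : R →+* S)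
    (hf : Function.Surjective f)
    (h : ∀ s t : LTSeries (PrimeSpectrum R), s.head = t.head → s.last = t.last →
      (∀ i : Fin s.length, s (Fin.castSucc i) ⋖ s (Fin.succ i)) →
      (∀ i : Fin t.length, t (Fin.castSucc i) ⋖ t (Fin.succ i)) → s.length = t.length)
    (s t : LTSeries (PrimeSpectrum S)) (hh : s.head = t.head) (hl : s.last = t.last)
    (hs : ∀ i : Fin s.length, s (Fin.castSucc i) ⋖ s (Fin.succ i))
    (ht : ∀ i : Fin t.length, t (Fin.castSucc i) ⋖ t (Fin.succ i)) : s.length = t.length := by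
  let c : PrimeSpectrum S → PrimeSpectrum R := PrimeSpectrum.comap f
  have hc : ∀ a b : PrimeSpectrum S, c a ≤ c b ↔ a ≤ b := fun a b =>
    ⟨fun h => (Ideal.comap_le_comap_iff_of_surjective f hf _ _).1 h, fun h => Ideal.comap_mono h⟩
  have hlt : ∀ a b : PrimeSpectrum S, c a < c b ↔ a < b := fun a b => by
    rw [lt_iff_le_not_ge, lt_iff_le_not_ge, hc, hc]
  have hcov : ∀ a b : PrimeSpectrum S, a ⋖ b → c a ⋖ c b := by
    refine fun a b hab => ⟨(hlt a b).2 hab.1, fun r h1 h2 => ?_⟩
    have hker : RingHom.ker f ≤ r.asIdeal :=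
      le_trans (Ideal.comap_mono bot_le) (h1.le : c a ≤ r)
    have hr : c ⟨r.asIdeal.map f, Ideal.map_isPrime_of_surjective hf hker⟩ = r :=
      PrimeSpectrum.ext (by
        show (r.asIdeal.map f).comap f = r.asIdeal
        rw [Ideal.comap_map_of_surjective' f hf, sup_eq_left.2 hker])
    rw [← hr] at h1 h2
    exact hab.2 ((hlt _ _).1 h1) ((hlt _ _).1 h2)
  refine h ⟨s.length, fun i => c (s i), fun i => (hlt _ _).2 (hs i).1⟩
    ⟨t.length, fun i => c (t i), fun i => (hlt _ _).2 (ht i).1⟩ (congrArg c hh) (congrArg c hl)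
    (fun i => hcov _ _ (hs i)) (fun i => hcov _ _ (ht i))

theorem flat_mvPolynomial_map {A : Type u} {B : Type w} [CommRing A] [CommRing B] (φ : A →+* B)
    (hφ : φ.Flat) (σ : Type) : (MvPolynomial.map (σ := σ) φ).Flat := by
  letI := φ.toAlgebra
  letI := MvPolynomial.algebraMvPolynomial (σ := σ) (R := A) (S := B)
  have : Module.Flat A B := hφ
  have h : IsBaseChange (MvPolynomial σ A)
      (IsScalarTower.toAlgHom A B (MvPolynomial σ B)).toLinearMap :=
    (inferInstance : Algebra.IsPushout A (MvPolynomial σ A) B (MvPolynomial σ B)).out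
  exact Module.Flat.isBaseChange A (MvPolynomial σ A) B (MvPolynomial σ B) h

section System

variable {ι : Type v} [Preorder ι] [Nonempty ι] [IsDirected ι (· ≤ ·)] (G : ι → Type u)
  [∀ i, CommRing (G i)] (f : ∀ i j, i ≤ j → G i →+* G j) [DirectedSystem G (fun i j h => f i j h)]

local notation "L" => Ring.DirectLimit G (fun i j h => f i j h)
local notation "φ" => Ring.DirectLimit.of G (fun i j h => f i j h)

theorem flat_of (hf : ∀ i j (h : i ≤ j), (f i j h).Flat) (i : ι) : (φ i).Flat := by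
  classical
  letI := (φ i).toAlgebra
  show Module.Flat (G i) L
  rw [Module.Flat.iff_forall_isTrivialRelation]
  intro n r x hx
  have hex : ∀ t, ∃ j y, φ j y = x t := fun t => Ring.DirectLimit.exists_of (x t)
  choose js ys hys using hex
  obtain ⟨j, hj⟩ := Finset.exists_le (Finset.univ.image js ∪ {i})
  have hij : i ≤ j := hj i (by simp)
  have hjt : ∀ t, js t ≤ j := fun t => hj _ (by simp)
  let y : Fin n → G j := fun t => f (js t) j (hjt t) (ys t)
  have hy : ∀ t, φ j (y t) = x t := fun t => (Ring.DirectLimit.of_f (hjt t) (ys t)).trans (hys t)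
  have h0 : φ j (∑ t, f i j hij (r t) * y t) = 0 := by
    rw [map_sum, ← hx]
    refine Finset.sum_congr rfl fun t _ => ?_
    rw [map_mul, Ring.DirectLimit.of_f, hy]
    rfl
  obtain ⟨k, hjk, hk⟩ := Ring.DirectLimit.of.zero_exact h0
  letI := (f i k (hij.trans hjk)).toAlgebra
  let l : G k →ₗ[G i] L :=
    { toFun := φ k, map_add' := map_add _, map_smul' := fun c z => by
        show φ k (f i k _ c * z) = φ i c * φ k z
        rw [map_mul, Ring.DirectLimit.of_f] }
  have h0' : ∑ t, r t • f j k hjk (y t) = 0 := by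
    rw [← hk, map_sum]
    refine Finset.sum_congr rfl fun t _ => ?_
    show f i k _ (r t) * _ = _
    rw [map_mul]
    congr 1
    exact (DirectedSystem.map_map (f := fun i j h => f i j h) hij hjk (r t)).symm
  obtain ⟨m, a, z, h1, h2⟩ := Module.Flat.iff_forall_isTrivialRelation.1 (hf i k _) h0'
  refine ⟨m, a, fun p => l (z p), fun t => ?_, h2⟩
  have : l (f j k hjk (y t)) = x t := (Ring.DirectLimit.of_f hjk (y t)).trans (hy t)
  refine this.symm.trans ((congrArg l (h1 t)).trans ?_)
  simp only [map_sum, map_smul]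

theorem eventually_mem_range (x : L) : ∃ i, ∀ j, i ≤ j → x ∈ Set.range (φ j) := by
  obtain ⟨i, y, rfl⟩ := Ring.DirectLimit.exists_of x
  exact ⟨i, fun j hj => ⟨f i j hj y, Ring.DirectLimit.of_f hj y⟩⟩

theorem eventually_mem_range_map {σ : Type} (p : MvPolynomial σ L) :
    ∃ i, ∀ j, i ≤ j → p ∈ Set.range (MvPolynomial.map (σ := σ) (φ j)) := by
  induction p using MvPolynomial.induction_on with
  | C a =>
    obtain ⟨i, hi⟩ := eventually_mem_range G f a
    refine ⟨i, fun j hj => ?_⟩
    obtain ⟨y, hy⟩ := hi j hj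
    exact ⟨MvPolynomial.C y, by rw [MvPolynomial.map_C, hy]⟩
  | add p q hp hq =>
    obtain ⟨i, hi⟩ := hp
    obtain ⟨i', hi'⟩ := hq
    obtain ⟨k, hik, hik'⟩ := exists_ge_ge i i'
    refine ⟨k, fun j hj => ?_⟩
    obtain ⟨a, ha⟩ := hi j (hik.trans hj)
    obtain ⟨b, hb⟩ := hi' j (hik'.trans hj)
    exact ⟨a + b, by rw [map_add, ha, hb]⟩
  | mul_X p n hp =>
    obtain ⟨i, hi⟩ := hp
    refine ⟨i, fun j hj => ?_⟩
    obtain ⟨a, ha⟩ := hi j hj
    exact ⟨a * MvPolynomial.X n, by rw [map_mul, ha, MvPolynomial.map_X]⟩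

theorem exists_stage_of_eventually {R : Type w} [CommRing R] [IsNoetherianRing R] (A : ι → Type u)
    [∀ i, CommRing (A i)] (g : ∀ i, A i →+* R) (hg : ∀ x : R, ∃ i, ∀ j, i ≤ j → x ∈ Set.range (g j))
    (F : Finset (PrimeSpectrum R)) :
    ∃ i, ∀ P ∈ F, (P.asIdeal.comap (g i)).map (g i) = P.asIdeal := by
  classical
  have hfg : ∀ P : PrimeSpectrum R, ∃ T : Finset R, Ideal.span (T : Set R) = P.asIdeal :=
    fun P => IsNoetherian.noetherian P.asIdeal
  choose T hT using hfg
  choose st hst using hg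
  obtain ⟨i, hi⟩ := Finset.exists_le ((F.biUnion T).image st)
  refine ⟨i, fun P hP => le_antisymm Ideal.map_comap_le ?_⟩
  rw [← hT P, Ideal.span_le]
  intro x hx
  obtain ⟨y, rfl⟩ := hst x i (hi _ (Finset.mem_image_of_mem _ (Finset.mem_biUnion.2 ⟨P, hP, hx⟩)))
  exact Ideal.mem_map_of_mem _ (Ideal.mem_comap.2 (Ideal.subset_span hx))

theorem isCatenary_directLimit (hf : ∀ i j (h : i ≤ j), (f i j h).Flat) [IsNoetherianRing L]
    (h : ∀ i, CAlg.IsCatenary (G i)) : CAlg.IsCatenary L := by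
  refine ⟨fun p q _ => ?_, length_eq_of_stages fun F => ?_⟩
  · obtain ⟨n, hn⟩ := exists_bound q
    exact ⟨n, fun s _ hs => hn s hs⟩
  · obtain ⟨i, hi⟩ := exists_stage_of_eventually G (fun i => φ i) (eventually_mem_range G f) F
    exact ⟨G i, inferInstance, φ i, h i, flat_of G f hf i, hi⟩

theorem isUniversallyCatenary_directLimit (hf : ∀ i j (h : i ≤ j), (f i j h).Flat)
    [IsNoetherianRing L] (h : ∀ i, CAlg.IsUniversallyCatenary (G i)) :
    CAlg.IsUniversallyCatenary L := by
  refine ⟨inferInstance, fun S _ _ hS => ?_⟩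
  obtain ⟨k, g, hg⟩ := (Algebra.FiniteType.iff_quotient_mvPolynomial'' (R := L) (S := S)).1 hS
  have : IsNoetherianRing S := Algebra.FiniteType.isNoetherianRing L S
  refine ⟨fun p q _ => ?_, ?_⟩
  · obtain ⟨n, hn⟩ := exists_bound q
    exact ⟨n, fun s _ hs => hn s hs⟩
  refine length_eq_of_surjective g.toRingHom hg (length_eq_of_stages fun F => ?_)
  obtain ⟨i, hi⟩ := exists_stage_of_eventually (fun i => MvPolynomial (Fin k) (G i))
    (fun i => MvPolynomial.map (φ i)) (eventually_mem_range_map G f) F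
  refine ⟨_, inferInstance, MvPolynomial.map (φ i), ?_, flat_mvPolynomial_map _ (flat_of G f hf i) _, hi⟩
  exact (h i).2 _ inferInstance

end System

end GrothLib.CatLimit
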